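import Cfsg.Agent.H920.FP.Zero

/-!
# Chevalley–Warning for quadratic forms on additive subgroups, characteristic two (helper842), S5719
-/

set_option autoImplicit false

namespace Cfsg.Agent.H842.IFE

open QuadraticMap Module

theorem zmod_two_cases (a : ZMod 2) : a = 0 ∨ a = 1 := by
  fin_cases a
  · exact Or.inl rfl
  · exact Or.inr rfl

/-- an additive subgroup with more than `q²` elements contains a nonzero singular vector -/
theorem exists_singular {F V : Type*} [Field F] [Fintype F] [CharP F 2] [AddCommGroup V] [Module F V] [Finite V]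
    (Q : QuadraticForm F V) (Y : AddSubgroup V) (hY : Fintype.card F ^ 2 < Nat.card Y) :
    ∃ y ∈ Y, y ≠ 0 ∧ Q y = 0 := by
  classical
  have h2 : (2 : F) = 0 := CharTwo.two_eq_zero
  let _ : Module (ZMod 2) Y := AddCommGroup.zmodModule (n := 2) (by
    intro y
    apply Subtype.ext
    rw [AddSubgroup.coe_nsmul, ← Nat.cast_smul_eq_nsmul F]
    simp [h2])
  let _ : Algebra (ZMod 2) F := ZMod.algebra F 2
  have hfin : Finite Y := inferInstance
  have hYf : Module.Finite (ZMod 2) Y := Module.Finite.of_finite
  have hFf : Module.Finite (ZMod 2) F := Module.Finite.of_finite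
  let B : Y →ₗ[ZMod 2] Y →ₗ[ZMod 2] F := LinearMap.mk₂ (ZMod 2) (fun x y => polar Q (x : V) (y : V))
    (fun x y z => by rw [AddSubgroup.coe_add, polar_add_left])
    (fun a x y => by
      rcases zmod_two_cases a with rfl | rfl
      · rw [zero_smul, zero_smul, AddSubgroup.coe_zero, polar_zero_left]
      · rw [one_smul, one_smul])
    (fun x y z => by rw [AddSubgroup.coe_add, polar_add_right])
    (fun a x y => by
      rcases zmod_two_cases a with rfl | rfl
      · rw [zero_smul, zero_smul, AddSubgroup.coe_zero, polar_zero_right]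
      · rw [one_smul, one_smul])
  let QY : QuadraticMap (ZMod 2) Y F :=
    { toFun := fun y => Q (y : V)
      toFun_smul := by
        intro a y
        rcases zmod_two_cases a with rfl | rfl
        · rw [zero_smul, AddSubgroup.coe_zero, QuadraticMap.map_zero, mul_zero, zero_smul]
        · rw [one_smul, mul_one, one_smul]
      exists_companion' := ⟨B, fun x y => by
        change Q ((x : V) + (y : V)) = Q (x : V) + Q (y : V) + polar Q (x : V) (y : V)
        exact QuadraticMap.map_add Q _ _⟩ }
  let c := Module.finBasis (ZMod 2) F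
  have h3 : 2 * Nat.card (Fin (finrank (ZMod 2) F)) < finrank (ZMod 2) Y := by
    have h4 := Module.natCard_eq_pow_finrank (K := ZMod 2) (V := Y)
    have h5 := Module.natCard_eq_pow_finrank (K := ZMod 2) (V := F)
    rw [Nat.card_zmod] at h4 h5
    rw [← Nat.card_eq_fintype_card, h4, h5, ← pow_mul] at hY
    have h6 := (Nat.pow_lt_pow_iff_right (by norm_num : 1 < 2)).1 hY
    rw [Nat.card_fin]
    omega
  obtain ⟨y, hy, h⟩ := Cfsg.Agent.H920.FP.cw (fun i => (c.coord i).compQuadraticMap QY) h3
  refine ⟨y, y.2, fun h0 => hy (Subtype.ext h0), ?_⟩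
  have h7 : QY y = 0 := by
    apply c.ext_elem
    intro i
    have := h i
    simpa using this
  exact h7

end Cfsg.Agent.H842.IFE
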